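import Groth.Agent.Lib.Branch14.EtaleNbhd
import Groth.Agent.Lib.AlgSpDecent.FlatAt
import Groth.Agent.Lib.AlgSpace.PointsBC

/-!
# Geometric unibranchness descends along flatness at a point
-/

universe u

set_option backward.isDefEq.respectTransparency.types false

open CategoryTheory CategoryTheory.Limits AlgebraicGeometry AlgSp

namespace Groth.Agent.UnibrDesc27

/-- Minimal primes of the source of a flat local map are images of minimal primes. -/
theorem encard_minimalPrimes_le {A B : Type u} [CommRing A] [CommRing B] [IsLocalRing A] [IsLocalRing B]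
    (φ : A →+* B) [IsLocalHom φ] (hφ : φ.Flat) :
    (minimalPrimes A).encard ≤ (minimalPrimes B).encard := by
  algebraize [φ]
  have : IsLocalHom (algebraMap A B) := ‹IsLocalHom φ›
  have : Module.FaithfullyFlat A B := Module.FaithfullyFlat.of_flat_of_isLocalHom
  refine (Set.encard_le_encard (t := (fun q => q.comap φ) '' minimalPrimes B) ?_).trans
    (Set.encard_image_le _ _)
  intro p hp
  have : p.IsPrime := hp.1.1
  obtain ⟨q, hq⟩ := PrimeSpectrum.comap_surjective_of_faithfullyFlat (A := A) (B := B) ⟨p, this⟩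
  have hqp : q.asIdeal.comap φ = p := congrArg PrimeSpectrum.asIdeal hq
  obtain ⟨q₀, hq₀, hle⟩ := Ideal.exists_minimalPrimes_le (bot_le : ⊥ ≤ q.asIdeal)
  have : q₀.IsPrime := hq₀.1.1
  have h1 : q₀.comap φ ≤ p := hqp ▸ Ideal.comap_mono hle
  exact ⟨q₀, hq₀, le_antisymm h1 (hp.2 ⟨Ideal.comap_isPrime φ q₀, bot_le⟩ h1)⟩

/-- Geometric unibranchness descends along a morphism which is flat at the point. -/
theorem isGeomUnibranch_of_flat {U V : Scheme.{u}} (h : U ⟶ V) (u : U) (hf : (h.stalkMap u).hom.Flat)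
    (hu : CAlg2.IsGeomUnibranch ↥(U.presheaf.stalk u)) :
    CAlg2.IsGeomUnibranch ↥(V.presheaf.stalk (h u)) := by
  rw [Branch14.isGeomUnibranch_stalk_iff] at hu ⊢
  intro V' g v' hg hv'
  obtain ⟨z, hz₁, hz₂⟩ := Scheme.Pullback.exists_preimage_pullback (f := h) (g := g) u v' hv'.symm
  subst hz₁ hz₂
  have h1 : ((pullback.fst h g).stalkMap z).hom.Flat := Flat.stalkMap _ z
  have h2 : ((pullback.snd h g ≫ g).stalkMap z).hom.Flat := by
    rw [← pullback.condition]
    exact AlgSpDecent.FlatAt.flat_stalkMap_comp _ _ z h1 hf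
  have h3 := AlgSpDecent.FlatAt.flat_stalkMap_of_comp_etale _ _ z h2
  have h4 := hu _ (pullback.fst h g) z inferInstance rfl
  refine le_antisymm ?_ (Branch14.one_le_encard_components _ _)
  rw [← h4, ← Branch14.encard_minimalPrimes_stalk, ← Branch14.encard_minimalPrimes_stalk]
  exact encard_minimalPrimes_le _ h3

end Groth.Agent.UnibrDesc27
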